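import Cfsg.Agent.H97.CoCert
import Cfsg.Agent.H56.Stab
import Cfsg.Agent.H9.SLBasic

set_option autoImplicit false

namespace Cfsg.Agent.H97.Co7

open Cfsg.Agent.H14 Cfsg.Agent.H15

def F : List ℕ := [nat_lit 0x79e81e81e8a079e82082081e79e7a279e79e,
  nat_lit 0x8228227229208a08208208228a2822820820,
  nat_lit 0x7a28228228a089e8208208228a279e79e79e,
  nat_lit 0x7df7df8df8df7df7df7df7df7df7db7df7df,
  nat_lit 0x8a28228228a08a28208208228a28a28a28a2,
  nat_lit 0x85f7df8df75f7e17df7df7df7df85b861861]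
def U : List ℕ := [nat_lit 0x9e775f85b7df4df6e555f8eb7e37637616e1,
  nat_lit 0x9a481e79c82059e7a45a08a8824820820720,
  nat_lit 0x7597e18637dfa6385d8df75b8df8617df85d,
  nat_lit 0x79c7a082089eaa69209a281a89c81e7208a0,
  nat_lit 0x81e69e89e81c99e91e8a27a28209226a27a4,
  nat_lit 0x8208208227a069e69a89e7228a2822820820]
def A1 : ℕ := nat_lit 0x8607e08607e182185f7e18608207e07df85f79f81f81f8208608207a081f8618218208207a18218218207e08207a08217df81f82082081f81f8218207e07a082082185f7a18208208218217a17a086082082082186182182082082181f81f8207de81e8208217e18218208208607e08607df8217df7df7e082086086186182181f8218207e082082079f86181f82081e82182181f8207e082081e81f85f8217a08207e08608607e18217df8617e08208607df7e181f82181f81e7e082082082186181f81e82081f81f82182086082081e8217e181f7a082082182181f8208607a082081f7e179f82082082179f81f82086082082082185f81f8207a081f82182182085e81e82081f85f81f82082081f7a18218207e082082081f7e18218207a081f82181f8208608208207a17df82182081e82181f82181e86082082081f7df82181e8208608608607e181f7e17df86082086085f7df81f81f79f7a07e082082081f7df81f8208207e08608607df82185f85f8608207e08617df7e07e08607df81f7e18618608208607e185f7e07e08607e181f86185f7e08207e085f8618608608607df81f8617e17e08207e07e17e1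
def A2 : ℕ := nat_lit 0x820820820820821820820820820820820820820820820820820820820860820820820820820820821820820820820820820820820820820820820820820821820820820820820820820820820820820820820820820821820820820820820820820820860820820820820820820820820860820820820820820820820820821820820820820820820820820820820820820820820820820860820820820820820820820820820820820820820820820860820820820820820820820820820821820820820820820820820820820820820820821820820820820820820820860820820820820820820820820820820820820820820820860820820820820821820820820820820820820820820820820820820821820820820820820820820820820860820820820820820820820820820820820820820820820820821820820820820820820820820820820820820820820820860820820820860820820820820820820820820820820820820820820820820820820820821820820820820820820820820820820820820860820820820820820820820820820820820821860820820820820820820820820820820820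
def AH : ℕ := nat_lit 0x7e08217e086081f8607e181f81f8617df86186081f8607e08218607df81f8218617df85f81f7e081f8237e081f8207e07e08208208208608217e07e08218607e181f81f7e18617df81f7e082381f7e081f8207e07e08208208207e081f8607e08217e07e182181f86185f7e186082186086082186086182182186186186181f7e081f81f7e081f8207e08e08208208207e081f7e07e081f86085f82181f86186185f86081f7e086082186085f82181f7e17df7e181f7e081f81f7e08238207e07e082082082081f8e081f81f7e081f8207e07e082082082081f7e081f81f7e081f8208e07e08208208208237e081f81f7e081f8207e07e082082082081f7e081f81f8e081f8207e07e08208208208608218607e081f7e085f81f81f7e185f86186081f7e07e081f7e086181f8218617e17e17e08217e07e08217e07df8218217e17e18618608217e086081f7e07df82182186185f7df7e08218607e081f8608618218217e17df7df7e08218608608217e085f81f81f8617e17df7e081f7e08608217e086181f8217e185f85f7e081f86086081f8607df81f8217e18617e186081f86086081f7e07e182181f7e17e185f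
def Y0 : ℕ := nat_lit 0x820820820820820820820820820828820820
def Y1 : ℕ := nat_lit 0x8a28228228a08a28208208228a28a28a28a2
def Y2 : ℕ := nat_lit 0x8a08208208a08228208208208208a08a28a2
def Y3 : ℕ := nat_lit 0x8a08208207a08228208208208208a48a28a2
def Z : ℕ := nat_lit 0x820820820820820820820820820828820820
def orbs : List (ℕ × ℕ) := [(5, nat_lit 0xfe), (16, nat_lit 0x101010101010100), (45, nat_lit 0xa4c2680e54329800), (57, nat_lit 0x5a3c96f0aacc6600), (0, nat_lit 0x1)]
def cA : List ℕ := [nat_lit 0xa9c3b8, nat_lit 0x9af650]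
def cB : List ℕ := [nat_lit 0xb6aaeca6ebe8f7aefce7eff89628e48669e0d72cf4c76df075a6dc65e7d834a2cc24e3c85524d44565d01420c40461c0, nat_lit 0x5165574d149071e75f6d9698b2eb6fae9aa89269678e18a0d36d77cf1cb0f3ef7fef9eb830e34f2c92881061470c1080]
def cS : List ℕ := [nat_lit 0x6ac99b462d9bb08b0a1c4831a3c05aa95ac52b97a87ae9dbc72f9fb84a891a442993a02a489942258b903a68d9c3278f981a2858c12387880a081840218380, nat_lit 0x3878e9f3664d1848992a7468512068d9ab766c593058b96af56a552878f9ebf76e5d38891a2c787061402858a972644910183868f162450808182870604100]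
def cCertL0 : Lev := ⟨nat_lit 9, nat_lit 0xfe00, (.node (nat_lit 12) (.node (nat_lit 10) (.leaf (nat_lit 0x8f1a2c4870a0c07ef9ebc76e9cb86ed9ab466c98b05eb96ac56a94a84e992a446890a03e78e9c3668c982e58a9426488901e3868c16284880e182840608080)) (.node (nat_lit 11) (.leaf (nat_lit 0x3878e9f3664d1848992a7468512068d9ab766c593058b96af56a552878f9ebf76e5d38891a2c787061402858a972644910183868f162450808182870604100)) (.leaf (nat_lit 0x6ac99b462d9bb08b0a1c4831a3c05aa95ac52b97a87ae9dbc72f9fb84a891a442993a02a489942258b903a68d9c3278f981a2858c12387880a081840218380)))) (.node (nat_lit 14) (.node (nat_lit 13) (.leaf (nat_lit 0x2848b912a4cb1048893a14a8d320890a3c18b0e34068c9bb16acdb3058a97a95aad72878e9fb97aedf383868f993a6cf1818287891a2c70808083810a0c300)) (.leaf (nat_lit 0x56b94ac5ea96a866d98b46ec9ab076f9cbc7ee9eb8871a0c48f0a2c046990a44e892a03678c9c3e68e9826588942e48a90163848c1e2868806180840e08280))) (.node (nat_lit 15) (.leaf (nat_lit 0x6ac59b764d9a303a64d9f3478e185aa55af54b96284a851a744992207ae5dbf74f9e382a449972458a108b061c7851a2401a2458f14386080a041870418200))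 (.leaf (nat_lit 0x72e9fbc7af9db852a97ac5ab95a8830a3c48b1a1c062c9bb46ad99b042893a44a991a02248b942a589903268f9c3a78d98122878c1a3858802083840a18180)))))⟩
def cCertC0 : LevCert := ⟨cCertL0,
    [(nat_lit 11, nat_lit 0), (nat_lit 10, nat_lit 1), (nat_lit 13, nat_lit 0), (nat_lit 14, nat_lit 0), (nat_lit 15, nat_lit 0), (nat_lit 12, nat_lit 1)],
    [[nat_lit 0, nat_lit 0, nat_lit 0, nat_lit 2, nat_lit 0, nat_lit 2, nat_lit 2, nat_lit 2, nat_lit 0], [nat_lit 4, nat_lit 4, nat_lit 4, nat_lit 2, nat_lit 4, nat_lit 2, nat_lit 4]],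
    [nat_lit 0x6ad1b3764cd8b03a70f1f346cc984a91327448d0a05ab172f54ad4a82a50b17244c8907af1f3f74edcb88b12347850e0c01a3070f142c4880a10307040c080, nat_lit 0x8b121438d1e0c03a70d1b3c7cc984a911234c9d0a07af1d3b7cfdcb82a509132c5c8905ab152b5cbd4a86ad19336cdd8b01a3050b1c3c4880a101030c1c080]⟩
def cCertL1 : Lev := ⟨nat_lit 10, nat_lit 0xfc00, (.node (nat_lit 13) (.node (nat_lit 11) (.leaf (nat_lit 0x8f1a2c4870a0c07ef9ebc76e9cb86ed9ab466c98b05eb96ac56a94a84e992a446890a03e78e9c3668c982e58a9426488901e3868c16284880e182840608080)) (.node (nat_lit 12) (.leaf (nat_lit 0x6ad1b3764cd8b03a70f1f346cc984a91327448d0a05ab172f54ad4a82a50b17244c8907af1f3f74edcb88b12347850e0c01a3070f142c4880a10307040c080)) (.leaf (nat_lit 0x6cdd9b268d58b07cfddba78f5cb82c5c99228548903c7cd9a3874c988d1e1c289160c05cbd5aa58b54a84c9d1a248950a01c3c58a18344880c1c1820814080)))) (.node (nat_lit 14) (.leaf (nat_lit 0x8b121438d1e0c03a70d1b3c7cc984a911234c9d0a07af1d3b7cfdcb82a509132c5c8905ab152b5cbd4a86ad19336cdd8b01a3050b1c3c4880a101030c1c080))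 (.node (nat_lit 15) (.leaf (nat_lit 0x2648b962a5089056a97ae5ab14a8870a3c68b120c03668f9e3a70c9846893a64a910a076e9fbe7af1cb866c9bb66ad18b0162878e1a3048806083860a10080)) (.leaf (nat_lit 0x448d2254e990a054ad62d5eb94a8244ca152e5889074ede3d7ef9cb864cda356ed98b0346ce1d3e78c98850e2458f1a0c0142c60d1e38488040c2050e18080)))))⟩
def cCertC1 : LevCert := ⟨cCertL1,
    [(nat_lit 11, nat_lit 0), (nat_lit 13, nat_lit 1), (nat_lit 12, nat_lit 1), (nat_lit 15, nat_lit 0), (nat_lit 14, nat_lit 0)],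
    [[nat_lit 0, nat_lit 0], [nat_lit 4, nat_lit 2, nat_lit 4, nat_lit 4, nat_lit 4, nat_lit 4]],
    [nat_lit 0x4c9d22546890a07cfde3d76e9cb82c5ca1526488905cbd62d56a94a88d1e245870a0c03c7ce1d3668c986cdda3566c98b01c3c60d16284880c1c2050608080, nat_lit 0x489532746890a03874f1f3668c9868d5b3766c98b058b572f56a94a88916347870a0c078f5f3f76e9cb82854b172648890183470f162848808143070608080]⟩
def cCertL2 : Lev := ⟨nat_lit 12, nat_lit 0xf000, (.node (nat_lit 14) (.node (nat_lit 13) (.leaf (nat_lit 0x8f1a2c4870a0c07ef9ebc76e9cb86ed9ab466c98b05eb96ac56a94a84e992a446890a03e78e9c3668c982e58a9426488901e3868c16284880e182840608080)) (.leaf (nat_lit 0x4c9d22546890a07cfde3d76e9cb82c5ca1526488905cbd62d56a94a88d1e245870a0c03c7ce1d3668c986cdda3566c98b01c3c60d16284880c1c2050608080))) (.node (nat_lit 15) (.leaf (nat_lit 0x8b123c6870a0c03a70f9e3668c982a50b9626488905ab17ae56a94a84a913a646890a07af1fbe76e9cb86ad1bb666c98b01a3078e16284880a103860608080)) (.leaf (nat_lit 0x489532746890a03874f1f3668c9868d5b3766c98b058b572f56a94a88916347870a0c078f5f3f76e9cb82854b172648890183470f162848808143070608080))))⟩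
def cCertC2 : LevCert := ⟨cCertL2,
    [(nat_lit 13, nat_lit 0), (nat_lit 15, nat_lit 1), (nat_lit 14, nat_lit 1)],
    [],
    []⟩
def cCert : List LevCert := [cCertC0, cCertC1, cCertC2]
def cCertL : List Lev := [cCertL0, cCertL1, cCertL2]
def cCertAL0 : Lev := ⟨nat_lit 1, nat_lit 254, (.node (nat_lit 4) (.node (nat_lit 2) (.leaf (nat_lit 0xfac688)) (.node (nat_lit 3) (.leaf (nat_lit 0x9af650)) (.leaf (nat_lit 0xa9c3b8)))) (.node (nat_lit 6) (.node (nat_lit 5) (.leaf (nat_lit 0x8b9af0)) (.leaf (nat_lit 0x78cea8))) (.node (nat_lit 7) (.leaf (nat_lit 0xa5f5a0)) (.leaf (nat_lit 0x2bcb98)))))⟩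
def cCertAC0 : LevCert := ⟨cCertAL0,
    [(nat_lit 3, nat_lit 0), (nat_lit 2, nat_lit 1), (nat_lit 5, nat_lit 0), (nat_lit 6, nat_lit 0), (nat_lit 7, nat_lit 0), (nat_lit 4, nat_lit 1)],
    [[nat_lit 0, nat_lit 0, nat_lit 0, nat_lit 2, nat_lit 0, nat_lit 2, nat_lit 0, nat_lit 2, nat_lit 2, nat_lit 2, nat_lit 2], [nat_lit 4, nat_lit 4, nat_lit 4, nat_lit 4, nat_lit 4, nat_lit 2, nat_lit 2, nat_lit 4]],
    [nat_lit 0xb374c8, nat_lit 0xf93948]⟩
def cCertAL1 : Lev := ⟨nat_lit 2, nat_lit 252, (.node (nat_lit 5) (.node (nat_lit 3) (.leaf (nat_lit 0xfac688)) (.node (nat_lit 4) (.leaf (nat_lit 0xb374c8)) (.leaf (nat_lit 0xb1af88)))) (.node (nat_lit 6) (.leaf (nat_lit 0xf93948)) (.node (nat_lit 7) (.leaf (nat_lit 0x6a5dc8)) (.leaf (nat_lit 0x4f7b08)))))⟩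
def cCertAC1 : LevCert := ⟨cCertAL1,
    [(nat_lit 3, nat_lit 0), (nat_lit 5, nat_lit 1), (nat_lit 4, nat_lit 1), (nat_lit 7, nat_lit 0), (nat_lit 6, nat_lit 0)],
    [[nat_lit 2, nat_lit 0, nat_lit 0, nat_lit 2, nat_lit 0, nat_lit 0, nat_lit 0], [nat_lit 2, nat_lit 4, nat_lit 4, nat_lit 2, nat_lit 4, nat_lit 4, nat_lit 4, nat_lit 4, nat_lit 4, nat_lit 4]],
    [nat_lit 0x977688, nat_lit 0xde5688]⟩
def cCertAL2 : Lev := ⟨nat_lit 4, nat_lit 240, (.node (nat_lit 6) (.node (nat_lit 5) (.leaf (nat_lit 0xfac688)) (.leaf (nat_lit 0xde5688))) (.node (nat_lit 7) (.leaf (nat_lit 0xb3e688)) (.leaf (nat_lit 0x977688))))⟩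
def cCertAC2 : LevCert := ⟨cCertAL2,
    [(nat_lit 7, nat_lit 0), (nat_lit 5, nat_lit 1), (nat_lit 6, nat_lit 1)],
    [],
    []⟩
def cCertA : List LevCert := [cCertAC0, cCertAC1, cCertAC2]
def cCertAL : List Lev := [cCertAL0, cCertAL1, cCertAL2]

theorem fb : fbOK m24_7A.X 7 6 F U = true := by decide +kernel
theorem gens : ∀ P ∈ cB, ∃ A d, genOK m24_7A.X 6 64 6 64 F U A d P = true := by
  simp only [cB, List.forall_mem_cons]
  exact ⟨⟨A1, 4, by decide +kernel⟩, ⟨A2, 1, by decide +kernel⟩, by simp⟩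
theorem hOK : coOK AH 4 = true ∧ twOK AH m24_7B.X m24_7A.X = true ∧ isImg AH 4 Z Y1 = true ∧
    fixP m24_7A.X Y1 = true ∧ fixP m24_7A.X Y0 = true := by decide +kernel
theorem reps : repOK m24_7A.X 6 U 5 Y0 Y0 64 = true ∧ repOK m24_7A.X 6 U 16 Y1 Y1 64 = true ∧
    repOK m24_7A.X 6 U 45 Y2 Y2 32 = true ∧ repOK m24_7A.X 6 U 57 Y3 Y3 48 = true := by
  decide +kernel
theorem orbs_ok : orbsOK 6 64 64 cB 7 orbs = true := by decide +kernel

theorem card_sl : Nat.card (Matrix.SpecialLinearGroup (Fin 3) (ZMod 2)) = 168 := by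
  have h2 := H9.card_sl_fin (F := ZMod 2) 3 (by norm_num)
  rw [ZMod.card] at h2
  generalize Nat.card (Matrix.SpecialLinearGroup (Fin 3) (ZMod 2)) = A at *
  norm_num [Fin.prod_univ_succ] at h2
  omega

theorem exists_surj (K : Subgroup (Equiv.Perm (W 6))) (hK : Nat.card K ≤ 168)
    (hg : ∀ P ∈ cB, (bvEnc 6 64 6 64 rfl rfl le_rfl).InG K P) :
    ∃ φ : K →* Matrix.SpecialLinearGroup (Fin 3) (ZMod 2), Function.Surjective φ := by
  obtain ⟨φ, h, -⟩ := H56.exists_surj_of_cert (E := bvEnc 3 8 3 8 rfl rfl le_rfl)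
    (F := bvEnc 6 64 6 64 rfl rfl le_rfl) (N := 72) (k := 7) (M := 128) rfl rfl (by decide)
    K.subtype K.subtype_injective _ (H56.slPerm_injective (Fin 3) (ZMod 2))
    (as := cA) (bs := cB) (cs := cS) (cert := cCert) (certA := cCertA)
    (by
      simp only [cA, List.forall_mem_cons]
      exact ⟨⟨⟨!![1, 0, 0; 1, 1, 0; 1, 1, 1], by decide⟩, by decide +kernel⟩,
        ⟨⟨!![0, 1, 1; 1, 0, 1; 0, 0, 1], by decide⟩, by decide +kernel⟩, by simp⟩)
    (fun P hP => let ⟨g, hg, e⟩ := hg P hP; ⟨⟨g, hg⟩, e⟩) (by decide +kernel) (by decide +kernel)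
    (by decide +kernel) (hK.trans (by decide +kernel)) (by decide +kernel)
    (card_sl.le.trans (by decide +kernel))
  exact ⟨φ, h⟩

end Cfsg.Agent.H97.Co7

namespace Cfsg.Agent.H15

open Subgroup Cfsg.Agent.H14 Cfsg.Agent.H97 Cfsg.Agent.H97.Co7

/-- `C_{Co0}(b) / ±⟨b⟩ ≅ SL₃(2)` for `b ∈ M24` of order 7 (shape `1³7³`); 14 fixed crosses. -/
theorem cenCo7 : ∃ b : M24, orderOf b = 7 ∧ FixData b 6 ∧
    ((fun v : leechLattice => (v : leechLattice ⧸ twoL)) ''
      {v | sqNorm (v : GolayPt → ℤ) = 64 ∧ permC b • v = v}).ncard = 14 ∧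
    ∃ φ : centralizer ({permC b} : Set Co0) →* Matrix.SpecialLinearGroup (Fin 3) (ZMod 2),
      Function.Surjective φ ∧ ∀ g, φ g = 1 ↔ (g : Co0) ∈ pmCyc b := by
  have hc : m24_7A ∈ m24Cl := by simp [m24Cl]
  obtain ⟨b, hb⟩ := exists_rep24 hc
  obtain ⟨a, ha⟩ := exists_rep24 (cl := m24_7B) (by simp [m24Cl])
  have ho : orderOf b = 7 := orderOf_of_ordP hb (by norm_num) (by decide +kernel)
  have hodd : Odd (orderOf b) := by rw [ho]; decide
  obtain ⟨B, hB⟩ := exists_FB hb fb
  have hg : ∀ P ∈ cB, (bvEnc 6 64 6 64 rfl rfl le_rfl).InG B.psi.range P := fun P hP =>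
    let ⟨_, _, h⟩ := gens P hP; hB.inG _ _ _ hb h
  obtain ⟨y0, e0, n0, r0⟩ := hB.rep hb reps.1
  obtain ⟨y1, e1, n1, r1⟩ := hB.rep hb reps.2.1
  obtain ⟨y2, -, n2, r2⟩ := hB.rep hb reps.2.2.1
  obtain ⟨y3, -, n3, r3⟩ := hB.rep hb reps.2.2.2
  have f0 : permC b • y0 = y0 := fix_of_fixP' hb hOK.2.2.2.2 e0
  have f1 : permC b • y1 = y1 := fix_of_fixP' hb hOK.2.2.2.1 e1
  have n4 : sqNorm ((0 : leechLattice) : Vec) = 0 := by simp [sqNorm]
  obtain ⟨k, hk⟩ := exists_isMat hOK.1
  obtain rfl := eq_e8 e0 (some 4) (by decide +kernel)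
  obtain rfl : y1 = k • e8 (some 4) :=
    Subtype.ext (e1.trans (hk.smul_vec hOK.2.2.1 (by decide +kernel)).symm)
  have s01 := r0.ne' r1 (hk.tw' ha hb hOK.2.1) (not_conj24 hb ha (by decide +kernel))
  have hs : ∀ {c : ℕ} {y : leechLattice}, B.Rep c y → sqNorm (y : Vec) = 64 →
      ∀ q ∈ orbs.tail.tail, ∀ g ∈ B.psi.range, g (wpt 6 c) ≠ wpt 6 q.1 := by
    intro c y r n
    simp only [orbs, List.tail_cons, List.forall_mem_cons]
    exact ⟨r.ne r2 (by omega) (by omega) (by omega), r.ne r3 (by omega) (by omega) (by omega),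
      r.ne FB.rep_zero (by omega) (by omega) (by omega), by simp⟩
  have m0 : (5, nat_lit 0xfe) ∈ orbs := by simp [orbs]
  have m1 : (16, nat_lit 0x101010101010100) ∈ orbs := by simp [orbs]
  have o0 : ∀ x, tb (nat_lit 0xfe) (wix x) = true →
      (MulAction.orbit B.psi.range x).ncard = 7 := fun x hx =>
    (ncard_orbit hg orbs_ok m0 (List.forall_mem_cons.2 ⟨Or.inl rfl, List.forall_mem_cons.2
      ⟨Or.inr s01, fun q hq => Or.inr (hs r0 n0 q hq)⟩⟩) hx).trans (by decide +kernel)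
  have o1 : ∀ x, tb (nat_lit 0x101010101010100) (wix x) = true →
      (MulAction.orbit B.psi.range x).ncard = 7 := fun x hx =>
    (ncard_orbit hg orbs_ok m1 (List.forall_mem_cons.2 ⟨Or.inr (ne_symm s01), List.forall_mem_cons.2
      ⟨Or.inl rfl, fun q hq => Or.inr (hs r1 n1 q hq)⟩⟩) hx).trans (by decide +kernel)
  have hcard : Nat.card (Cen b) ≤ 2 * orderOf b * 168 := by
    have h1 := r0.card_le
    have h2 := (card_cen_mono' hc hb).trans (by decide +kernel : _ ≤ 336)
    rw [o0 _ (by decide +kernel)] at h1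
    omega
  obtain ⟨φ, hφ⟩ := exists_surj _ (B.card_range_le hodd hcard) hg
  have hker := B.ker_eq hodd φ hφ (by rw [card_sl]; exact hcard)
  refine ⟨b, ho, B.fixData (fun g h => (hker g).1 ?_) fun j => ?_, ?_, _,
    hφ.comp B.psi.rangeRestrict_surjective, hker⟩
  · rw [MonoidHom.comp_apply, show B.psi.rangeRestrict g = 1 from Subtype.ext h, map_one]
  · rcases (by decide +kernel : ∀ j : Fin 6, tb (nat_lit 0xfe) (wix (wpt 6 (2 ^ (j : ℕ)))) = true ∨
      tb (nat_lit 0x101010101010100) (wix (wpt 6 (2 ^ (j : ℕ)))) = true) j with h | h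
    · rw [o0 _ h]; decide
    · rw [o1 _ h]; decide
  · rw [B.ncard_mk (S := {v | sqNorm (v : GolayPt → ℤ) = 64 ∧ permC b • v = v}) fun _ h => h.2]
    refine Eq.trans (congrArg Set.ncard (Set.ext fun x => ?_))
      ((ncard_tb (bvEnc 6 64 6 64 rfl rfl le_rfl) (nat_lit 0x1010101010101fe)).trans (by decide +kernel))
    have hu : tb (nat_lit 0x1010101010101fe) (wix x) = true ↔ tb (nat_lit 0xfe) (wix x) = true ∨
        tb (nat_lit 0x101010101010100) (wix x) = true := by
      rw [tb_eq, tb_eq, tb_eq, ← Bool.or_eq_true, ← Nat.testBit_or]; rfl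
    refine Iff.trans ⟨?_, ?_⟩ hu.symm
    · rintro ⟨v, ⟨h1, h2⟩, rfl⟩
      obtain ⟨q, hq, e⟩ := orbs_cover (E := bvEnc 6 64 6 64 rfl rfl le_rfl) orbs_ok (B.kap v)
      rcases List.mem_cons.1 hq with rfl | hq'
      · exact Or.inl e
      rcases List.mem_cons.1 hq' with rfl | hq'
      · exact Or.inr e
      obtain ⟨g, hg', e'⟩ := orbs_sound hg orbs_ok hq e
      exact absurd (e'.trans (wpt_wix _).symm) (ne_symm (hs (FB.rep_wix h2) h1 q hq') g hg')
    · rintro (h | h)
      · obtain ⟨g, hg', rfl⟩ := orbs_sound hg orbs_ok m0 h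
        obtain ⟨v, hv, e⟩ := r0.exists_fix f0 hg'
        exact ⟨v, ⟨hv.1.trans n0, hv.2⟩, e⟩
      · obtain ⟨g, hg', rfl⟩ := orbs_sound hg orbs_ok m1 h
        obtain ⟨v, hv, e⟩ := r1.exists_fix f1 hg'
        exact ⟨v, ⟨hv.1.trans n1, hv.2⟩, e⟩

end Cfsg.Agent.H15
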