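import Cfsg.Agent.H15.Maximal
import Cfsg.Agent.H14.GolayUnique

/-! Characterisation of the Leech lattice in coordinates given by a frame. -/

set_option autoImplicit false
set_option linter.style.haveILetI false

namespace Cfsg.Agent.H15
open Cfsg Finset
open scoped Pointwise

/-- a lattice in frame coordinates -/
structure Fr (Λ : AddSubgroup Vec) : Prop where
  par : ∀ x ∈ Λ, ∀ i j, x i % 2 = x j % 2
  dvd : ∀ x ∈ Λ, (16 : ℤ) ∣ sqNorm x
  ne16 : ∀ x ∈ Λ, sqNorm x ≠ 16
  four : ∀ y : Vec, (∑ i, y i) % 2 = 0 → (fun i => 4 * y i) ∈ Λ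
  frame : ∀ x ∈ Λ, sqNorm x = 64 → ∀ p, ∃ w ∈ Λ, sqNorm (x - (2 : ℤ) • w) = 64 ∧ (x - (2 : ℤ) • w) p ≠ 0
  n32 : {x | x ∈ Λ ∧ sqNorm x = 32}.ncard = 196560

/-- the positions of the coordinates that are `2` modulo `4` -/
def two4 (x : Vec) : Finset GolayPt := univ.filter fun i => x i % 4 = 2

theorem mem_two4 {x : Vec} {i : GolayPt} : i ∈ two4 x ↔ x i % 4 = 2 := by simp [two4]

theorem four_card_le (x : Vec) (s : Finset GolayPt) (h : ∀ i ∈ s, x i % 2 = 0 ∧ x i ≠ 0) :
    4 * (s.card : ℤ) ≤ sqNorm x := by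
  have h1 : ∑ i ∈ s, (4 : ℤ) ≤ ∑ i ∈ s, x i ^ 2 := Finset.sum_le_sum fun i hi => by
    have := h i hi
    have h2 : x i ≤ -2 ∨ 2 ≤ x i := by omega
    rcases h2 with h2 | h2 <;> nlinarith
  have h2 : ∑ i ∈ s, x i ^ 2 ≤ sqNorm x :=
    Finset.sum_le_sum_of_subset_of_nonneg (subset_univ _) fun i _ _ => sq_nonneg _
  rw [Finset.sum_const, nsmul_eq_mul] at h1
  omega

namespace Fr
variable {Λ : AddSubgroup Vec} (h : Fr Λ)
include h

theorem min {x : Vec} (hx : x ∈ Λ) (h0 : x ≠ 0) : 32 ≤ sqNorm x := by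
  have h1 := h.dvd x hx
  have h2 := h.ne16 x hx
  have h3 := sqNorm_nonneg x
  have h4 : sqNorm x ≠ 0 := fun e => h0 (sqNorm_eq_zero e)
  omega

theorem dot {x y : Vec} (hx : x ∈ Λ) (hy : y ∈ Λ) : (8 : ℤ) ∣ dotInt x y := by
  have h1 := h.dvd x hx
  have h2 := h.dvd y hy
  have h3 := h.dvd _ (Λ.add_mem hx hy)
  rw [sqNorm_add] at h3
  omega

theorem orth {x y w : Vec} (hx : x ∈ Λ) (hw : w ∈ Λ) (e : y = x - (2 : ℤ) • w) (h1 : sqNorm x = 64)
    (h2 : sqNorm y = 64) (h3 : y ≠ x) (h4 : y ≠ -x) : dotInt x y = 0 := by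
  have a := h.min hw (by rintro rfl; exact h3 (by simpa using e))
  have b := h.min (Λ.sub_mem hx hw) (fun e' => h4 (by
    rw [e, sub_eq_zero.1 e', two_smul]; abel))
  have e1 : x - y = (2 : ℤ) • w := by rw [e]; abel
  have e2 : x + y = (2 : ℤ) • (x - w) := by rw [e, two_smul, two_smul]; abel
  have c1 := sqNorm_sub x y
  have c2 := sqNorm_add x y
  rw [e1, sqNorm_smul] at c1
  rw [e2, sqNorm_smul] at c2
  omega

theorem four_dvd_card {x : Vec} (hx : x ∈ Λ) (he : ∀ i, x i % 2 = 0) : 4 ∣ (two4 x).card := by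
  have h1 : (16 : ℤ) ∣ ∑ i, (x i ^ 2 - if x i % 4 = 2 then 4 else 0) :=
    Finset.dvd_sum fun i _ => sq_mod16_even (he i)
  rw [Finset.sum_sub_distrib, ← Finset.sum_filter, Finset.sum_const, nsmul_eq_mul] at h1
  have h2 := h.dvd x hx
  unfold sqNorm at h2
  unfold two4
  omega

theorem card_ne_four {x : Vec} (hx : x ∈ Λ) (he : ∀ i, x i % 2 = 0) : (two4 x).card ≠ 4 := by
  intro h4
  obtain ⟨j, hj⟩ : (two4 x).Nonempty := Finset.card_pos.1 (by omega)
  have key : ∀ y : Vec, (∑ i, y i) % 2 = 0 → (∀ i, (x i - 4 * y i) ^ 2 = if x i % 4 = 2 then 4 else 0) →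
      False := fun y h1 h2 => by
    refine h.ne16 _ (Λ.sub_mem hx (h.four y h1)) ?_
    simp only [sqNorm, Pi.sub_apply, h2]
    rw [← Finset.sum_filter, Finset.sum_const, nsmul_eq_mul]
    unfold two4 at h4
    omega
  by_cases h1 : (∑ i, x i / 4) % 2 = 0
  · refine key (fun i => x i / 4) h1 fun i => ?_
    have := he i
    split_ifs
    · rw [show x i - 4 * (x i / 4) = 2 by omega]; rfl
    · rw [show x i - 4 * (x i / 4) = 0 by omega]; rfl
  · refine key (fun i => x i / 4 + (Pi.single j 1 : Vec) i) ?_ fun i => ?_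
    · rw [Finset.sum_add_distrib, Finset.sum_pi_single', if_pos (mem_univ _)]; omega
    · have := he i
      have h2 := mem_two4.1 hj
      rw [Pi.single_apply]
      split_ifs with a b
      · rw [show x i - 4 * (x i / 4 + 1) = -2 by omega]; rfl
      · subst a; omega
      · rw [show x i - 4 * (x i / 4 + 0) = 2 by omega]; rfl
      · rw [show x i - 4 * (x i / 4 + 0) = 0 by omega]; rfl

theorem even_inter {x y : Vec} (hx : x ∈ Λ) (hex : ∀ i, x i % 2 = 0) (hy : y ∈ Λ)
    (hey : ∀ i, y i % 2 = 0) : Even (two4 x ∩ two4 y).card := by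
  have h1 : (8 : ℤ) ∣ ∑ i, (x i * y i - if i ∈ two4 x ∩ two4 y then 4 else 0) :=
    Finset.dvd_sum fun i _ => by
      simp only [Finset.mem_inter, mem_two4]
      obtain ⟨p, hp⟩ := Int.dvd_of_emod_eq_zero (hex i)
      obtain ⟨q, hq⟩ := Int.dvd_of_emod_eq_zero (hey i)
      rw [hp, hq]
      rcases Int.even_or_odd' p with ⟨p, rfl | rfl⟩ <;> rcases Int.even_or_odd' q with ⟨q, rfl | rfl⟩
      · rw [if_neg (by omega)]; exact ⟨2 * p * q, by ring⟩
      · rw [if_neg (by omega)]; exact ⟨p * (2 * q + 1), by ring⟩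
      · rw [if_neg (by omega)]; exact ⟨q * (2 * p + 1), by ring⟩
      · rw [if_pos ⟨by omega, by omega⟩]; exact ⟨2 * p * q + p + q, by ring⟩
  rw [Finset.sum_sub_distrib, Finset.sum_ite_mem, Finset.univ_inter, Finset.sum_const,
    nsmul_eq_mul] at h1
  have h2 := h.dot hx hy
  unfold dotInt at h2
  rw [Nat.even_iff]
  omega

theorem five (S : Finset GolayPt) (hS : S.card = 5) :
    ∃ w ∈ Λ, (∀ i, w i % 2 = 0) ∧ (two4 w).card = 8 ∧ S ⊆ two4 w := by
  obtain ⟨p, hp⟩ : S.Nonempty := Finset.card_pos.1 (by omega)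
  have hT : (S.erase p).card = 4 := by rw [Finset.card_erase_of_mem hp, hS]
  set T := S.erase p with hTd
  have hpT : p ∉ T := Finset.notMem_erase _ _
  let x : Vec := fun i => 4 * if i ∈ T then 1 else 0
  have hx : x ∈ Λ := h.four _ (by rw [Finset.sum_ite_mem, Finset.univ_inter]; simp [hT])
  have hdx : ∀ y, dotInt x y = 4 * ∑ i ∈ T, y i := fun y => by
    simp only [dotInt, x, mul_ite, ite_mul, mul_one, mul_zero, zero_mul]
    rw [Finset.sum_ite_mem, Finset.univ_inter, Finset.mul_sum]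
  have hn : sqNorm x = 64 := by
    rw [← dot_self, hdx, Finset.sum_congr rfl (g := fun _ => 4) fun i hi => by simp [x, hi]]
    simp [hT]
  obtain ⟨w, hw, hy, hyp⟩ := h.frame x hx hn p
  set y := x - (2 : ℤ) • w with hyd
  have hxp : x p = 0 := by simp [x, hpT]
  have o1 := h.orth hx hw hyd hn hy (fun e => hyp (by rw [e, hxp])) (fun e => hyp (by simp [e, hxp]))
  have o2 : ∀ i ∈ T, ∀ j ∈ T, i ≠ j → y i + y j = 0 := fun i hi j hj hij => by
    let u : Vec := Pi.single i 4 + Pi.single j 4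
    have hu : u ∈ Λ := by
      have := h.four (Pi.single i 1 + Pi.single j 1) (by simp [Finset.sum_add_distrib])
      convert this using 1
      funext l
      simp only [u, Pi.add_apply, Pi.single_apply]
      split_ifs <;> rfl
    have hdu : ∀ z, dotInt u z = 4 * z i + 4 * z j := fun z => by
      rw [dot_add_left, dot_single_left, dot_single_left]
    have hup : u p = 0 := by
      have a : p ≠ i := fun e => hpT (e ▸ hi)
      have b : p ≠ j := fun e => hpT (e ▸ hj)
      simp [u, a, b]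
    have hn' : sqNorm (x - (2 : ℤ) • u) = 64 := by
      rw [sqNorm_sub, sqNorm_smul, dot_smul_right, dot_comm, hdu, ← dot_self u, hdu, hn]
      simp [u, x, hi, hj, hij, hij.symm]
    have := h.orth (Λ.sub_mem hx (Λ.zsmul_mem hu 2)) (Λ.sub_mem hw hu) (y := y)
      (by rw [hyd, smul_sub]; abel) hn' hy (fun e => hyp (by simp [e, hxp, hup]))
      (fun e => hyp (by simp [e, hxp, hup]))
    rw [dot_sub_left, dot_smul_left, o1, hdu] at this
    omega
  have o3 : ∀ i ∈ T, y i = 0 := fun i hi => by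
    obtain ⟨j, k, hj, hk, hjk⟩ := Finset.one_lt_card_iff.1
      (show 1 < (T.erase i).card by rw [Finset.card_erase_of_mem hi]; omega)
    rw [Finset.mem_erase] at hj hk
    have a := o2 i hi j hj.2 hj.1.symm
    have b := o2 i hi k hk.2 hk.1.symm
    have c := o2 j hj.2 k hk.2 hjk
    omega
  have hwi : ∀ i, 2 * w i = x i - y i := fun i => by simp [hyd]
  have hwT : ∀ i ∈ T, w i = 2 := fun i hi => by
    have := hwi i
    rw [o3 i hi] at this
    simp only [x, if_pos hi] at this
    omega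
  obtain ⟨t, ht⟩ : T.Nonempty := Finset.card_pos.1 (by omega)
  have he : ∀ i, w i % 2 = 0 := fun i => by rw [h.par w hw i t, hwT t ht]; rfl
  have hwn : sqNorm w = 32 := by
    have c1 := sqNorm_sub x y
    rw [show x - y = (2 : ℤ) • w by rw [hyd]; abel, sqNorm_smul] at c1
    omega
  have hTw : T ⊆ two4 w := fun i hi => mem_two4.2 (by rw [hwT i hi]; rfl)
  have c1 := Finset.card_le_card hTw
  have c2 := h.four_dvd_card hw he
  have c3 := h.card_ne_four hw he
  have c4 := four_card_le w (insert p (two4 w)) fun i hi => ⟨he i, by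
    rcases Finset.mem_insert.1 hi with rfl | hi
    · have := hwi i; omega
    · have := mem_two4.1 hi; omega⟩
  have hpw : p ∈ two4 w := by
    by_contra hh
    rw [Finset.card_insert_of_notMem hh] at c4
    omega
  rw [Finset.insert_eq_of_mem hpw] at c4
  refine ⟨w, hw, he, by omega, fun i hi => ?_⟩
  by_cases e : i = p
  · exact e ▸ hpw
  · exact hTw (Finset.mem_erase.2 ⟨e, hi⟩)

theorem exists_perm : ∃ g : Equiv.Perm GolayPt, ∀ x ∈ Λ, (∀ i, x i % 2 = 0) →
    IsCw (two4 fun i => x (g i)) := by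
  have hG : H14.GolayLike {s | ∃ x ∈ Λ, (∀ i, x i % 2 = 0) ∧ s = two4 x} := by
    refine ⟨⟨0, Λ.zero_mem, fun _ => rfl, rfl⟩, ?_, ?_, ?_, fun S hS => ?_⟩
    · rintro _ ⟨x, hx, hex, rfl⟩ _ ⟨y, hy, hey, rfl⟩
      refine ⟨x + y, Λ.add_mem hx hy, fun i => by have := hex i; have := hey i; simp; omega, ?_⟩
      ext i
      have := hex i
      have := hey i
      simp only [Finset.mem_symmDiff, mem_two4, Pi.add_apply]
      omega
    · rintro _ ⟨x, hx, hex, rfl⟩ _ ⟨y, hy, hey, rfl⟩
      exact h.even_inter hx hex hy hey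
    · rintro _ ⟨x, hx, hex, rfl⟩
      exact h.card_ne_four hx hex
    · obtain ⟨w, hw, a, b, c⟩ := h.five S hS
      exact ⟨_, ⟨w, hw, a, rfl⟩, b, c⟩
  obtain ⟨g, hg⟩ := hG.exists_perm
  refine ⟨g, fun x hx he => isCw_of_even fun d hd => ?_⟩
  have := hG.even _ (hg d hd) _ ⟨x, hx, he, rfl⟩
  rw [← Finset.card_smul_finset g]
  convert this using 2
  ext i
  simp only [mem_perm_smul, Finset.mem_inter, mem_two4, Equiv.apply_symm_apply]

theorem exists_odd : ∃ x ∈ Λ, ∀ i, x i % 2 = 1 := by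
  classical
  by_contra hh
  have he : ∀ x ∈ Λ, ∀ i, x i % 2 = 0 := fun x hx i => by
    by_contra h1
    exact hh ⟨x, hx, fun j => by rw [h.par x hx j i]; omega⟩
  obtain ⟨g, hg⟩ := h.exists_perm
  let E := {x : Vec | x ∈ leechLattice ∧ sqNorm x = 4 * ((8 : ℕ) : ℤ) ∧
    ∀ i, x i ∈ ({0, 2, -2, 4, -4} : Finset ℤ)}
  have hE : E.ncard = 98256 := (ncard_vals _ (by decide) 8).trans (by decide +kernel)
  have hEf : E.Finite := Set.finite_of_ncard_ne_zero (by omega)
  have mE : ∀ x : Vec, (∀ i, x i % 2 = 0) → (∑ i, x i) % 8 = 0 → IsCw (two4 x) → sqNorm x = 32 →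
      x ∈ E := fun x a b c d => ⟨mem_leech_of_even a b c, d, fun i => by
        have := abs_le.1 (abs_le_of_sqNorm_lt (b := 5) (x := x) (by norm_num) (by omega) i)
        have := a i
        simp only [Finset.mem_insert, Finset.mem_singleton]
        omega⟩
  let τ : Vec → Vec := fun x i => if i = Classical.epsilon (· ∈ two4 x) then -x i else x i
  have hτ : ∀ x, two4 (τ x) = two4 x := fun x => by
    ext i; simp only [mem_two4, τ]; split_ifs <;> omega
  have hττ : ∀ x, τ (τ x) = x := fun x => by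
    funext i
    have : τ (τ x) i = if i = Classical.epsilon (· ∈ two4 x) then -τ x i else τ x i := by rw [← hτ]
    rw [this]
    simp only [τ]
    split_ifs <;> simp
  have hsub : (fun x i => x (g i)) '' {x | x ∈ Λ ∧ sqNorm x = 32} ⊆ E ∪ τ '' E := by
    rintro _ ⟨x, ⟨hx, hn⟩, rfl⟩
    have a : ∀ i, (fun i => x (g i)) i % 2 = 0 := fun i => he x hx _
    have c := hg x hx (he x hx)
    have d : sqNorm (fun i => x (g i)) = 32 := by rw [← hn]; exact Equiv.sum_comp g fun i => x i ^ 2
    beta_reduce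
    revert a c d
    generalize (fun i => x (g i)) = y
    intro a c d
    have s4 : (∑ i, y i) % 4 = 0 ∧ ((two4 y).card = 0 → (∑ i, y i) % 8 = 0) := by
      have h1 : (8 : ℤ) ∣ ∑ i, (2 * y i - if i ∈ two4 y then 4 else 0) := Finset.dvd_sum fun i _ => by
        have := a i
        simp only [mem_two4]; split_ifs <;> omega
      rw [Finset.sum_sub_distrib, Finset.sum_ite_mem, Finset.univ_inter, Finset.sum_const,
        nsmul_eq_mul, ← Finset.mul_sum] at h1
      have := c.card_cases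
      refine ⟨by omega, fun h0 => ?_⟩
      have h2 : (32 : ℤ) ∣ ∑ i, (y i ^ 2 - 4 * y i) := Finset.dvd_sum fun i _ => by
        have h3 : i ∉ two4 y := by rw [Finset.card_eq_zero.1 h0]; simp
        rw [mem_two4] at h3
        have := a i
        obtain ⟨k, hk⟩ : (4 : ℤ) ∣ y i := Int.dvd_of_emod_eq_zero (by omega)
        obtain ⟨m, hm⟩ := Int.even_mul_pred_self k
        exact ⟨m, by rw [hk]; linear_combination 16 * hm⟩
      rw [Finset.sum_sub_distrib, ← Finset.mul_sum] at h2
      unfold sqNorm at d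
      omega
    by_cases b : (∑ i, y i) % 8 = 0
    · exact Or.inl (mE y a b c d)
    refine Or.inr ⟨τ y, mE _ (fun i => ?_) ?_ (by rw [hτ]; exact c) ?_, hττ y⟩
    · have := a i
      simp only [τ]; split_ifs <;> omega
    · have hne : ∃ j, j ∈ two4 y := Finset.card_pos.1 (Nat.pos_of_ne_zero fun h0 => b (s4.2 h0))
      have h1 : y (Classical.epsilon (· ∈ two4 y)) % 4 = 2 := mem_two4.1 (Classical.epsilon_spec hne)
      have h3 := s4.1
      have h2 : ∑ i, τ y i = ∑ i, (y i - if i = Classical.epsilon (· ∈ two4 y) then 2 * y i else 0) :=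
        Finset.sum_congr rfl fun i _ => by simp only [τ]; split_ifs <;> ring
      rw [h2, Finset.sum_sub_distrib, Finset.sum_ite_eq', if_pos (mem_univ _)]
      generalize y (Classical.epsilon (· ∈ two4 y)) = u at h1 ⊢
      generalize ∑ i, y i = s at h3 b ⊢
      omega
    · rw [← d]
      exact Finset.sum_congr rfl fun i _ => by simp only [τ]; split_ifs <;> ring
  have c1 := Set.ncard_le_ncard hsub (hEf.union (hEf.image _))
  have c2 := Set.ncard_union_le E (τ '' E)
  have c3 := Set.ncard_image_le (f := τ) hEf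
  rw [Set.ncard_image_of_injective _ (fun x y e => funext fun i => by
    simpa using congrFun e (g.symm i)), h.n32] at c1
  omega

theorem exists_map : ∃ F : Vec →+ Vec, (∀ x, sqNorm (F x) = sqNorm x) ∧ Λ.map F = leechLattice := by
  obtain ⟨g, hg⟩ := h.exists_perm
  obtain ⟨x0, hx0, ho⟩ := h.exists_odd
  let F : Vec →+ Vec := AddMonoidHom.mk' (fun x i => if x0 (g i) % 4 = 1 then x (g i) else -x (g i))
    fun x y => funext fun i => by simp only [Pi.add_apply]; split_ifs <;> ring
  have hF : ∀ x i, F x i = if x0 (g i) % 4 = 1 then x (g i) else -x (g i) := fun _ _ => rfl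
  have hd : ∀ x y, dotInt (F x) (F y) = dotInt x y := fun x y => by
    rw [dotInt, dotInt, ← Equiv.sum_comp g fun i => x i * y i]
    exact Finset.sum_congr rfl fun i _ => by rw [hF, hF]; split_ifs <;> ring
  have hn : ∀ x, sqNorm (F x) = sqNorm x := fun x => by rw [← dot_self, hd, dot_self]
  have h1 : ∀ i, F x0 i % 4 = 1 := fun i => by
    have := ho (g i)
    rw [hF]; split_ifs <;> omega
  have h0 : F x0 ∈ leechLattice := by
    refine mem_leech_of_one_mod_four h1 ?_
    have a : (16 : ℤ) ∣ ∑ i, (F x0 i ^ 2 - (2 * F x0 i - 1)) := Finset.dvd_sum fun i _ => by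
      have := sq_mod16_odd (a := F x0 i) (by have := h1 i; omega)
      rwa [if_neg (by have := h1 i; omega), add_zero] at this
    rw [Finset.sum_sub_distrib, Finset.sum_sub_distrib, ← Finset.mul_sum, Finset.sum_const,
      Finset.card_univ, card_pt] at a
    have b := h.dvd x0 hx0
    rw [← hn, sqNorm] at b
    simp only [nsmul_eq_mul] at a
    omega
  have hev : ∀ x ∈ Λ, (∀ i, x i % 2 = 0) → F x ∈ leechLattice := fun x hx he => by
    have a : ∀ i, F x i % 2 = 0 := fun i => by
      have := he (g i)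
      rw [hF]; split_ifs <;> omega
    refine mem_leech_of_even a ?_ ?_
    · have b : (8 : ℤ) ∣ ∑ i, (F x i * F x0 i - F x i) := Finset.dvd_sum fun i _ => by
        obtain ⟨p, hp⟩ := Int.dvd_of_emod_eq_zero (a i)
        obtain ⟨q, hq⟩ : (4 : ℤ) ∣ F x0 i - 1 := by have := h1 i; omega
        exact ⟨p * q, by rw [hp, sub_eq_iff_eq_add.1 hq]; ring⟩
      have c := h.dot hx hx0
      rw [← hd, dotInt] at c
      rw [Finset.sum_sub_distrib] at b
      omega
    · convert hg x hx he using 1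
      ext i
      simp only [Finset.mem_filter, mem_univ, true_and, mem_two4, hF]
      split_ifs <;> omega
  have hle : ∀ x ∈ Λ, F x ∈ leechLattice := fun x hx => by
    by_cases he : x none % 2 = 0
    · exact hev x hx fun i => by rw [h.par x hx i none, he]
    · have := hev _ (Λ.sub_mem hx hx0) fun i => by
        have := h.par x hx i none
        have := ho i
        rw [Pi.sub_apply]; omega
      rw [map_sub] at this
      simpa using leechLattice.add_mem this h0
  have hinj : Function.Injective F := (injective_iff_map_eq_zero F).2 fun x hx =>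
    sqNorm_eq_zero (by rw [← hn, hx]; simp [sqNorm])
  refine ⟨F, hn, le_antisymm (by rintro _ ⟨x, hx, rfl⟩; exact hle x hx) (leech_le_of_min _ ?_)⟩
  have : F '' {x | x ∈ Λ ∧ sqNorm x = 32} = {x | x ∈ leechLattice ∧ sqNorm x = 32} :=
    Set.eq_of_subset_of_ncard_le (by rintro _ ⟨x, hx, rfl⟩; exact ⟨hle x hx.1, (hn x).trans hx.2⟩)
      (by rw [Set.ncard_image_of_injective _ hinj, h.n32, ncard_norm32])
      (Set.finite_of_ncard_ne_zero (by rw [ncard_norm32]; norm_num))
  intro v hv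
  have h2 : (v : Vec) ∈ F '' {x | x ∈ Λ ∧ sqNorm x = 32} := by rw [this]; exact ⟨v.2, hv⟩
  obtain ⟨x, hx, e⟩ := h2
  exact ⟨x, hx.1, e⟩

end Fr

end Cfsg.Agent.H15
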