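import Cfsg.Agent.H15.Monster4

/-! Groups of Monster type: subgroups of prime order of `C(z, s)`. -/

set_option autoImplicit false

namespace Cfsg.Agent.H15

open Subgroup H97 MulAction

universe u

theorem exists_isConj_zpow {K : Type*} [Group K] [Finite K] {p : ℕ} (hp : p.Prime)
    (hK : (Nat.card K).factorization p = 1) {x y : K} (hx : orderOf x = p) (hy : orderOf y = p) :
    ∃ j : ℤ, IsConj (x ^ j) y := by
  haveI : Fact p.Prime := ⟨hp⟩
  obtain ⟨g, hg⟩ := exists_smul_eq K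
    (Sylow.ofCard (zpowers x) (by rw [hK, pow_one, Nat.card_zpowers, hx]))
    (Sylow.ofCard (zpowers y) (by rw [hK, pow_one, Nat.card_zpowers, hy]))
  have : y ∈ (g • Sylow.ofCard (p := p) (zpowers x)
      (by rw [hK, pow_one, Nat.card_zpowers, hx]) : Sylow p K) := hg ▸ mem_zpowers y
  obtain ⟨_, ⟨j, rfl⟩, e⟩ := this
  exact ⟨j, isConj_iff.2 ⟨g, e⟩⟩

theorem exists_gen {G : Type*} [Group G] {L B : Subgroup G} (hB : B ≤ L) {p : ℕ} (hp : p.Prime)
    (hc : Nat.card B = p) : ∃ β : L, orderOf β = p ∧ B = zpowers (β : G) := by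
  haveI : Fact p.Prime := ⟨hp⟩
  obtain ⟨β, rfl⟩ := (Subgroup.isCyclic_iff_exists_zpowers_eq_top B).1 (isCyclic_of_prime_card hc)
  exact ⟨⟨β, hB (mem_zpowers β)⟩, by rw [← hc, Nat.card_zpowers, orderOf_mk], rfl⟩

theorem orderOf_map_of_ker {A B : Type*} [Group A] [Group B] (χ : A →* B) {n p : ℕ}
    (hk : Nat.card χ.ker = 2 ^ n) (hp : p.Prime) (ho : Odd p) {β : A} (hβ : orderOf β = p) :
    orderOf (χ β) = p := by
  haveI : Fact p.Prime := ⟨hp⟩
  have h1 : β ^ p = 1 := hβ ▸ pow_orderOf_eq_one β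
  refine orderOf_eq_prime (by rw [← map_pow, h1, map_one]) fun e => ?_
  have := eq_one_of_odd ho h1 (n := n)
    (hk ▸ congrArg Subtype.val (pow_card_eq_one' (x := (⟨β, e⟩ : χ.ker))))
  rw [this, orderOf_one] at hβ
  exact hp.one_lt.ne hβ

theorem card_of_chi {A : Type*} [Group A] (χ : A →* M24) (hs : Function.Surjective χ)
    (hk : Nat.card χ.ker = 2 ^ 35) : Nat.card A = 2 ^ 35 * 244823040 := by
  rw [← χ.ker.card_mul_index, index_ker, MonoidHom.range_eq_top.2 hs, card_top, H14.card_M24, hk]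

/-- a 3-central element of `2^35 . M24` has 3-central image -/
theorem dvd_of_central {A : Type*} [Group A] [Finite A] (χ : A →* M24) (hs : Function.Surjective χ)
    (hk : Nat.card χ.ker = 2 ^ 35) {β : A} (P : Sylow 3 A)
    (h : β ∈ (center (P : Subgroup A)).map (P : Subgroup A).subtype) :
    27 ∣ Nat.card (centralizer ({χ β} : Set M24)) := by
  have h1 : (P : Subgroup A).map χ ≤ centralizer ({χ β} : Set M24) := by
    rintro _ ⟨a, ha, rfl⟩
    obtain ⟨β, hβ, rfl⟩ := h
    rw [mem_centralizer_singleton_iff, ← map_mul, ← map_mul]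
    exact congrArg χ (congrArg Subtype.val (mem_center_iff.1 hβ ⟨a, ha⟩))
  have h2 : Nat.card (P : Subgroup A) = 27 := by
    rw [P.card_eq_multiplicity, card_of_chi χ hs hk]
    decide +kernel
  have h3 := relIndex_ker (P : Subgroup A) χ
  have h4 := (χ.ker.subgroupOf (P : Subgroup A)).card_mul_index
  have h5 : Nat.card (χ.ker.subgroupOf (P : Subgroup A)) ∣ 2 ^ 35 := by
    rw [← inf_subgroupOf_right, Nat.card_congr (subgroupOfEquivOfLe inf_le_right).toEquiv, ← hk]
    exact card_dvd_of_le inf_le_left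
  have h6 := Nat.dvd_gcd h5 (Dvd.intro _ (h4.trans h2))
  rw [show Nat.gcd (2 ^ 35) 27 = 1 by norm_num, Nat.dvd_one] at h6
  rw [h6, one_mul, ← relIndex, h3, h2] at h4
  exact h4 ▸ card_dvd_of_le h1

theorem central_of_dvd {A : Type*} [Group A] [Finite A] (χ : A →* M24) (hs : Function.Surjective χ)
    (hk : Nat.card χ.ker = 2 ^ 35) {β : A} (hβ : β ^ 3 = 1)
    (h : 27 ∣ Nat.card (centralizer ({χ β} : Set M24))) : ∃ P : Sylow 3 A,
      zpowers β ≤ (center (P : Subgroup A)).map (P : Subgroup A).subtype := by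
  have h1 : centralizer ({χ β} : Set M24) ≤ (centralizer ({β} : Set A)).map χ := fun k hk' => by
    obtain ⟨a, e1, e2⟩ := exists_comm_lift χ hs Nat.prime_three
      (hk ▸ not_dvd_two_pow Nat.prime_three (by decide) _) hβ (mem_centralizer_singleton_iff.1 hk')
    exact ⟨a, mem_centralizer_singleton_iff.2 e2, e1⟩
  have h2 := (h.trans (card_dvd_of_le h1)).trans (card_map_dvd _ χ)
  obtain ⟨P₀, hP⟩ := IsPGroup.exists_le_sylow (p := 3)
    (P := zpowers (⟨β, mem_centralizer_singleton_iff.2 rfl⟩ : centralizer ({β} : Set A)))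
    (by
      rintro ⟨_, i, rfl⟩
      refine ⟨1, Subtype.ext (Subtype.ext ?_)⟩
      simp only [pow_one, SubgroupClass.coe_pow, SubgroupClass.coe_zpow, coe_one]
      rw [← zpow_natCast, ← zpow_mul, mul_comm, zpow_mul, zpow_natCast, hβ, one_zpow])
  have h3 : 27 ∣ Nat.card (P₀ : Subgroup (centralizer ({β} : Set A))) := by
    rw [P₀.card_eq_multiplicity]
    exact pow_dvd_pow 3
      ((Nat.prime_three.pow_dvd_iff_le_factorization (k := 3) Nat.card_pos.ne').1 h2)
  obtain ⟨P, hP'⟩ := (P₀.isPGroup'.map (centralizer ({β} : Set A)).subtype).exists_le_sylow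
  have h4 : Nat.card (P : Subgroup A) = 27 := by
    rw [P.card_eq_multiplicity, card_of_chi χ hs hk]
    decide +kernel
  have h5 := eq_of_le_of_card_ge hP' (by
    rw [h4, card_map_of_injective (subtype_injective _)]
    exact Nat.le_of_dvd Nat.card_pos h3)
  refine ⟨P, zpowers_le.2 ⟨⟨β, hP' ⟨_, hP (mem_zpowers _), rfl⟩⟩, mem_center_iff.2 fun a => ?_, rfl⟩⟩
  obtain ⟨a', -, e⟩ : (a : A) ∈ (P₀ : Subgroup (centralizer ({β} : Set A))).map
    (centralizer ({β} : Set A)).subtype := by rw [h5]; exact a.2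
  apply Subtype.ext
  change (a : A) * β = β * a
  rw [← e]
  exact mem_centralizer_singleton_iff.1 a'.2

variable {G : Type u} [Group G] {z : G}

namespace MD

variable {Q : Subgroup G} {π : centralizer ({z} : Set G) →* Spor.Co1}
  {R : G → leechLattice → Prop} (M : MD z Q π R)
  [Finite G] {g : G} (hs : g * z * g⁻¹ ∈ Q) (hne : g * z * g⁻¹ ≠ z)
include M hs hne

theorem reduce {p : ℕ} (hp : p.Prime) (ho : Odd p) {β : centralizer ({z, g * z * g⁻¹} : Set G)}
    (hβ : β ^ p = 1) {b : M24} (hb : orderOf b = p) {k : Co0} (hπ : (permC b : Spor.Co1) =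
      MulAut.conj (k : Spor.Co1) (π ⟨β, cent_pair_le _ _ β.2⟩)) {w : ℕ} (hw : 0 < w)
    (F : FixData b (2 * w)) {T : Type*} [Group T] (φ : centralizer ({permC b} : Set Co0) →* T)
    (hφ : Function.Surjective φ) (hφk : ∀ k, φ k = 1 ↔ (k : Co0) ∈ pmCyc b) {B : Subgroup G}
    (hB : B = zpowers (β : G)) [(B.subgroupOf (centralizer (B : Set G))).Normal] :
    ∃ (y : centralizer (B : Set G) ⧸ B.subgroupOf (centralizer (B : Set G)))
      (S : Subgroup (centralizer {y})) (_ : S.Normal),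
      IsExtraspecialCentralizerSetting y S w ∧ Nonempty (centralizer {y} ⧸ S ≃* T) ∧
      (¬ p ∣ 48 → {x : centralizer {y} | x ∈ S ∧ IsConj y x.1}.ncard =
        2 * ((fun v : leechLattice => (v : leechLattice ⧸ twoL)) ''
          {v | sqNorm (v : Vec) = 64 ∧ permC b • v = v}).ncard + 1) :=
  (M.twist k).odd_reduction hs hne hp ho (congrArg Subtype.val hβ) (cent_pair_le _ _ β.2)
    (β.2 _ (by simp)).symm (hb ▸ pow_orderOf_eq_one b) hπ hw F φ hφ hφk
    (fun y => by rw [hB, zpowers_eq_closure, centralizer_closure, mem_centralizer_singleton_iff])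
    (QuotientGroup.mk' _) (QuotientGroup.mk'_surjective _) fun y => by
      rw [QuotientGroup.mk'_apply, QuotientGroup.eq_one_iff, mem_subgroupOf, ← hB]

theorem exists_sylow_gen {p : ℕ} (hp : p.Prime) (ho : Odd p)
    (h1 : (2 ^ 35 * 244823040).factorization p = 1) (h2 : (244823040).factorization p = 1)
    {B : Subgroup G} (hB : B ≤ centralizer ({z, g * z * g⁻¹} : Set G))
    (hBp : Nat.card B = p ^ (Nat.card (centralizer ({z, g * z * g⁻¹} : Set G))).factorization p)
    {b : M24} (hb : orderOf b = p) : ∃ (β : centralizer ({z, g * z * g⁻¹} : Set G)) (k : Co0),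
      β ^ p = 1 ∧ B = zpowers (β : G) ∧ (permC b : Spor.Co1) =
        MulAut.conj (k : Spor.Co1) (π ⟨β, cent_pair_le _ _ β.2⟩) := by
  obtain ⟨χ, c1, c2, c3⟩ := M.exists_chi hs hne
  rw [card_of_chi χ c1 c2, h1, pow_one] at hBp
  obtain ⟨β, o, rfl⟩ := exists_gen hB hp hBp
  haveI : Finite M24 := Nat.finite_of_card_ne_zero (by rw [H14.card_M24]; norm_num)
  obtain ⟨j, hj⟩ := exists_isConj_zpow hp (by rw [H14.card_M24, h2])
    (orderOf_map_of_ker χ c2 hp ho o) hb
  have e : (β ^ j) ^ p = 1 := by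
    rw [← zpow_natCast, ← zpow_mul, mul_comm, zpow_mul, zpow_natCast, ← o, pow_orderOf_eq_one,
      one_zpow]
  obtain ⟨k, hk⟩ := c3 (β ^ j) p hp ho e b (by rwa [map_zpow])
  refine ⟨β ^ j, k, e, (eq_of_le_of_card_ge (zpowers_le.2 (zpow_mem_zpowers _ j)) ?_).symm, hk⟩
  haveI : Fact p.Prime := ⟨hp⟩
  rw [hBp, Nat.card_zpowers, ← SubgroupClass.coe_zpow, orderOf_coe,
    orderOf_eq_prime e fun e' => ?_]
  rw [← map_zpow, e', map_one, isConj_one_right] at hj
  rw [hj, orderOf_one] at hb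
  exact hp.one_lt.ne hb

end MD

end Cfsg.Agent.H15
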