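import Cfsg.Agent.H15.FixPt
import Cfsg.Agent.H15.QuotSet

/-! Groups of Monster type: centralisers of elements of odd prime order. -/

set_option autoImplicit false

namespace Cfsg.Agent.H15

open Subgroup H97 MulAction

universe u

variable {G : Type u} [Group G] {z : G}

theorem cent_pair (z s : G) :
    centralizer ({z, s} : Set G) = centralizer ({z} : Set G) ⊓ centralizer ({s} : Set G) := by
  ext a
  simp [mem_centralizer_iff]

theorem cent_pair_le (z s : G) : centralizer ({z, s} : Set G) ≤ centralizer ({z} : Set G) :=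
  cent_pair z s ▸ inf_le_left

namespace MD

variable {Q : Subgroup G} {π : centralizer ({z} : Set G) →* Spor.Co1}
  {R : G → leechLattice → Prop} (M : MD z Q π R)
include M

theorem of_mk_eq {q : G} {v v' : leechLattice} (h : R q v)
    (e : (v' : leechLattice ⧸ twoL) = v) : R q v' := by
  obtain ⟨u, rfl⟩ := mk_eq_iff'.1 e
  exact M.add_two h u

theorem ncard_pre [Finite G] (S : Set (leechLattice ⧸ twoL)) :
    {a | ∃ v, R a v ∧ (v : leechLattice ⧸ twoL) ∈ S}.ncard = 2 * S.ncard := by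
  choose r hr using M.ex'
  have hi : ∀ {a} {κ κ' : leechLattice ⧸ twoL}, R a κ.out → R a κ'.out → κ = κ' :=
    fun {a κ κ'} h h' => by
      rw [← QuotientAddGroup.out_eq' κ, ← QuotientAddGroup.out_eq' κ', eq_comm, mk_eq_iff']
      exact M.congr h h'
  have : {a | ∃ v, R a v ∧ (v : leechLattice ⧸ twoL) ∈ S} =
      (fun κ => r κ.out) '' S ∪ (fun κ => z * r κ.out) '' S := by
    ext a
    constructor
    · rintro ⟨v, hv, hS⟩
      exact (M.uniq (hr _) (M.of_mk_eq hv (QuotientAddGroup.out_eq' _))).imp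
        (fun e => ⟨_, hS, e.symm⟩) fun e => ⟨_, hS, e.symm⟩
    · rintro (⟨κ, h, rfl⟩ | ⟨κ, h, rfl⟩)
      · exact ⟨_, hr _, by rwa [QuotientAddGroup.out_eq']⟩
      · exact ⟨_, M.zmul (hr _), by rwa [QuotientAddGroup.out_eq']⟩
  rw [this, Set.ncard_union_eq, Set.ncard_image_of_injective, Set.ncard_image_of_injective,
    two_mul]
  · exact fun κ κ' e => hi (hr _) ((mul_left_cancel e : r κ.out = r κ'.out) ▸ hr _)
  · exact fun κ κ' e => hi (hr _) ((show r κ.out = r κ'.out from e) ▸ hr _)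
  · rw [Set.disjoint_left]
    rintro _ ⟨κ, -, rfl⟩ ⟨κ', -, e⟩
    obtain rfl := hi (hr κ.out) ((show z * r κ'.out = r κ.out from e) ▸ M.zmul (hr _))
    exact M.lx.ne (mul_eq_right.1 e)

variable [Finite G] {g : G} (hs : g * z * g⁻¹ ∈ Q) (hne : g * z * g⁻¹ ≠ z)
include hs hne

theorem exists_chi : ∃ χ : centralizer ({z, g * z * g⁻¹} : Set G) →* M24,
    Function.Surjective χ ∧ Nat.card χ.ker = 2 ^ 35 ∧
    ∀ (β : centralizer ({z, g * z * g⁻¹} : Set G)) (p : ℕ), p.Prime → Odd p → β ^ p = 1 →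
      ∀ b : M24, IsConj (χ β) b → ∃ k : Co0, (permC b : Spor.Co1) =
        MulAut.conj (k : Spor.Co1) (π ⟨β, cent_pair_le _ _ β.2⟩) := by
  obtain ⟨k₀, h8⟩ := M.exists_twist hs hne
  have M' := M.twist k₀
  have hL := M'.pb_L hne h8
  rw [← cent_pair] at hL
  set π' := (MulAut.conj (k₀ : Spor.Co1)).toMonoidHom.comp π
  have hr : ∀ a : centralizer ({z, g * z * g⁻¹} : Set G), ∃ k : monoN,
      ((k : Co0) : Spor.Co1) = π' (inclusion (cent_pair_le _ _) a) := fun a => by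
    obtain ⟨k, e⟩ := lift' (π := π') (inclusion (cent_pair_le _ _) a)
    exact ⟨⟨k, hL ▸ mem_pb.2 ⟨_, a.2, e⟩⟩, e⟩
  obtain ⟨χ, hχ⟩ := exists_hom_of_range ((QuotientGroup.mk' _).comp monoN.subtype)
    (π'.comp (inclusion (cent_pair_le _ _))) hr monoP fun k e => (monoP_eq_one_iff k).2 (by
      rcases mem_center_iff'.1 ((QuotientGroup.eq_one_iff _).1 e) with e | e
      · exact (show (k : Co0) = 1 from e) ▸ signG.one_mem
      · exact (show (k : Co0) = negC from e) ▸ negC_mem_signG)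
  have hsurj : Function.Surjective χ := fun σ => by
    obtain ⟨c, hc, e⟩ := mem_pb.1 (hL ▸ permC_mem_monoN σ)
    exact ⟨⟨c, hc⟩, (hχ ⟨c, hc⟩ ⟨_, permC_mem_monoN σ⟩ e).trans (monoP_permC σ)⟩
  refine ⟨χ, hsurj, ?_, fun β p hp ho hβ b hb => ?_⟩
  · have h1 := M'.card_pb (cent_pair_le z (g * z * g⁻¹))
    have h2 := (ex_of_lx M.lx).card_cent1 hs (M.cj g).lx.ne hne
    have h3 : centralizer ({z, g * z * g⁻¹} : Set G) ⊓ Q =
        Q ⊓ centralizer ({g * z * g⁻¹} : Set G) := by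
      rw [cent_pair]
      ext a
      exact ⟨fun h => ⟨h.2, h.1.2⟩,
        fun h => ⟨⟨mem_centralizer_singleton_iff.2 (M.lx.cen a h.1), h.2⟩, h.1⟩⟩
    have h4 := χ.ker.card_mul_index
    rw [index_ker, MonoidHom.range_eq_top.2 hsurj, card_top, H14.card_M24] at h4
    rw [hL, h3, card_monoN'] at h1
    rw [M.card] at h2
    rw [show Nat.card (Q ⊓ centralizer ({g * z * g⁻¹} : Set G) : Subgroup G) = 2 ^ 24 by omega]
      at h1
    omega
  · obtain ⟨k, e⟩ := hr β
    have hk : ∃ k : monoN, ((k : Co0) : Spor.Co1) = π' (inclusion (cent_pair_le _ _) β) ∧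
        k ^ p = 1 := by
      have : (((k ^ p : monoN) : Co0) : Spor.Co1) = 1 := by
        rw [SubgroupClass.coe_pow, QuotientGroup.mk_pow, e, ← map_pow, ← map_pow, hβ, map_one,
          map_one]
      rcases mem_center_iff'.1 ((QuotientGroup.eq_one_iff _).1 this) with e' | e'
      · exact ⟨k, e, Subtype.ext e'⟩
      · refine ⟨⟨negC, signG_le negC_mem_signG⟩ * k, (co1_neg k).trans e, Subtype.ext ?_⟩
        change (negC * (k : Co0)) ^ p = 1
        rw [Commute.mul_pow (negC_comm _).symm, negC_pow_odd ho, ← SubgroupClass.coe_pow, e',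
          negC_sq]
    obtain ⟨k, e, hk⟩ := hk
    obtain ⟨m, hm⟩ := exists_conj_permC hp ho k hk
    obtain ⟨μ, rfl⟩ := isConj_iff.1 hb
    refine ⟨permC μ * m * k₀, ?_⟩
    rw [hχ β k e, ← permHom_apply (_ * _), map_mul, map_mul, map_inv, permHom_apply, permHom_apply,
      ← hm]
    simp only [QuotientGroup.mk_mul, QuotientGroup.mk_inv, e, MulAut.conj_apply, π',
      MonoidHom.comp_apply, MulEquiv.coe_toMonoidHom]
    group
    rfl

theorem odd_reduction {p : ℕ} (hp : p.Prime) (ho : Odd p) {β : G} (hβ : β ^ p = 1)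
    (hβz : β ∈ centralizer ({z} : Set G)) (hβs : β * (g * z * g⁻¹) = g * z * g⁻¹ * β) {b : M24}
    (hb : b ^ p = 1) (hπ : (permC b : Spor.Co1) = π ⟨β, hβz⟩) {w : ℕ} (hw : 0 < w)
    (F : FixData b (2 * w)) {T : Type*} [Group T] (φ : centralizer ({permC b} : Set Co0) →* T)
    (hφ : Function.Surjective φ) (hφk : ∀ k, φ k = 1 ↔ (k : Co0) ∈ pmCyc b)
    {Y : Subgroup G} (hY : ∀ y, y ∈ Y ↔ y * β = β * y) {X : Type*} [Group X] [Finite X]
    (f : Y →* X) (hf : Function.Surjective f) (hk : ∀ y, f y = 1 ↔ (y : G) ∈ zpowers β) :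
    ∃ (y : X) (S : Subgroup (centralizer ({y} : Set X))) (_ : S.Normal),
      IsExtraspecialCentralizerSetting y S w ∧ Nonempty (centralizer ({y} : Set X) ⧸ S ≃* T) ∧
      (¬ p ∣ 48 → {x : centralizer ({y} : Set X) | x ∈ S ∧ IsConj y (x : X)}.ncard =
        2 * ((fun v : leechLattice => (v : leechLattice ⧸ twoL)) ''
          {v | sqNorm (v : Vec) = 64 ∧ permC b • v = v}).ncard + 1) := by
  have hz' := mem_centralizer_singleton_iff.1 hβz
  obtain ⟨zY, rfl⟩ : ∃ zY : Y, (zY : G) = z := ⟨⟨z, (hY z).2 hz'.symm⟩, rfl⟩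
  have hB := permC_pow hb
  have pw : ∀ x ∈ zpowers β, x ^ p = 1 := by
    rintro _ ⟨i, rfl⟩
    rw [← zpow_natCast, ← zpow_mul, mul_comm, zpow_mul, zpow_natCast, hβ, one_zpow]
  have cm : ∀ (y : Y), ∀ x ∈ zpowers β, Commute (y : G) x := by
    rintro y _ ⟨i, rfl⟩
    exact Commute.zpow_right ((hY y).1 y.2) i
  have q4 : ∀ a ∈ Q, a ^ 2 ^ 2 = 1 := fun a ha => by
    rw [show 2 ^ 2 = 2 * 2 from rfl, pow_mul, pow_two a]
    rcases M.lx.sqr a ha with e | e <;> rw [e]
    exacts [one_pow _, (pow_two _).trans M.lx.sq]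
  have hfe : ∀ a c : Y, (a : G) ^ 2 ^ 2 = 1 → (c : G) ^ 2 ^ 2 = 1 → f a = f c → a = c :=
    fun a c ha hc e => by
      rw [← inv_mul_eq_one, ← map_inv, ← map_mul, hk] at e
      have h1 : (c : G) = a * (a⁻¹ * c : Y) := by simp
      rw [h1, (cm a _ e).mul_pow, ha, one_mul] at hc
      have := eq_one_of_odd ho (pw _ e) hc
      rw [this, mul_one] at h1
      exact Subtype.ext h1.symm
  have hz4 := q4 _ M.lx.mem
  have hcent : ∀ y, f y * f zY = f zY * f y → y * zY = zY * y := fun y e => by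
    rw [← mul_inv_eq_iff_eq_mul, ← map_inv, ← map_mul, ← map_mul] at e
    exact mul_inv_eq_iff_eq_mul.1 (hfe _ _ (by
      rw [coe_mul, coe_mul, coe_inv, conj_pow, hz4, mul_one, mul_inv_cancel]) hz4 e)
  have hfix : ∀ {q v}, R q v → permC b • v = v → q ∈ Y := fun {q v} h hv => by
    have h1 := M.conj _ _ hπ h
    rw [hv] at h1
    rw [hY, eq_comm, ← mul_inv_eq_iff_eq_mul]
    refine (M.uniq h h1).resolve_right fun e => M.lx.ne ?_
    have e : β * q * β⁻¹ = zY * q := e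
    have h2 : ∀ n : ℕ, β ^ n * q = (zY : G) ^ n * q * β ^ n := fun n => by
      induction n with
      | zero => simp
      | succ n ih =>
        rw [pow_succ', mul_assoc, ih, ← mul_assoc, ← mul_assoc,
          (Commute.pow_right hz' n).eq, mul_assoc _ β, mul_inv_eq_iff_eq_mul.1 e, pow_succ]
        simp only [mul_assoc]
    have h3 := h2 p
    rw [hβ, one_mul, mul_one, eq_comm, mul_eq_right] at h3
    exact eq_one_of_odd ho h3 hz4
  have hcls : ∀ {q v}, R q v → q ∈ Y →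
      ((permC b • v : leechLattice) : leechLattice ⧸ twoL) = v := fun {q v} h hq => by
    have h1 := M.conj _ _ hπ h
    rw [show ((⟨β, hβz⟩ : centralizer _) : G) = β from rfl, ← (hY q).1 hq,
      mul_inv_cancel_right] at h1
    exact mk_eq_iff'.2 (M.congr h h1)
  have hrange : ∀ h : centralizer ({zY} : Set Y), ∃ k : centralizer ({permC b} : Set Co0),
      ((k : Co0) : Spor.Co1) = π (cenIncl zY h) := fun h => by
    obtain ⟨k, e⟩ := lift' (π := π) (cenIncl zY h)
    refine ⟨⟨k, mem_centralizer_singleton_iff.2 (comm_of_co1 ho hB ?_)⟩, e⟩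
    rw [e, hπ, ← map_mul, ← map_mul]
    exact congrArg π (Subtype.ext ((hY _).1 h.1.2))
  have hdec : ∀ (h : centralizer ({zY} : Set Y)) (k : Co0), (k : Spor.Co1) = π (cenIncl zY h) →
      k ∈ pmCyc b → ∃ a : Y, (a : G) ∈ Q ∧ ∃ i : ℤ, (h.1 : G) = a * β ^ i := fun h k e hk => by
    obtain ⟨i, hi⟩ := mem_pmCyc.1 hk
    refine ⟨h.1 * (⟨β, (hY β).2 rfl⟩ ^ i)⁻¹, (M.ker (cenIncl zY h * (⟨β, hβz⟩ ^ i)⁻¹)).1 ?_, i,
      by simp⟩
    rw [map_mul, map_inv, map_zpow, ← hπ, ← e, ← hi, mul_inv_cancel]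
  have hfd : ∀ (c a : Y) (i : ℤ), (c : G) = a * β ^ i → f c = f a := fun c a i e => by
    rw [show c = a * ⟨β, (hY β).2 rfl⟩ ^ i from Subtype.ext e, map_mul,
      (hk (_ ^ i)).2 (zpow_mem_zpowers β i), mul_one]
  obtain ⟨θ, hθ⟩ := exists_hom_of_range ((QuotientGroup.mk' _).comp (centralizer _).subtype)
    (π.comp (cenIncl zY)) hrange φ fun k e => (hφk k).2 (mem_pmCyc.2 (by
      rw [show ((k : Co0) : Spor.Co1) = 1 from e]; exact one_mem _))
  have weak : ∀ g' : G, g' * zY * g'⁻¹ ∈ Q → g' * zY * g'⁻¹ ≠ zY →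
      β * (g' * zY * g'⁻¹) = g' * zY * g'⁻¹ * β →
      ∃ c : Y, c * zY * (c : G)⁻¹ = g' * zY * g'⁻¹ * zY := fun g' h1 h2 h3 => by
    obtain ⟨c, -, e1, e2⟩ := lx_exists_fixed (M.cj g').lx (M.cj g').card hp ho hβ h3
      (M.mem_cjs_of_mem h1 h2) M.lx.ne h2.symm hz'
    exact ⟨⟨c, (hY c).2 e1⟩, e2⟩
  obtain ⟨c, hc⟩ := weak g hs hne hβs
  have hinj : Set.InjOn f {a | (a : G) ∈ Q} := fun a ha c hc e => hfe a c (q4 _ ha) (q4 _ hc) e
  have hcount : ∀ P : G → Prop, (f '' {a | (a : G) ∈ Q ∧ P a}).ncard =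
      {a | a ∈ Q ∧ a ∈ Y ∧ P a}.ncard := fun P => by
    rw [(hinj.mono fun a ha => ha.1).ncard_image,
      ← Set.ncard_image_of_injective _ Subtype.val_injective]
    congr 1
    ext a
    exact ⟨fun ⟨x, hx, e⟩ => e ▸ ⟨hx.1, x.2, hx.2⟩, fun h => ⟨⟨a, h.2.1⟩, ⟨h.1, h.2.2⟩, rfl⟩⟩
  obtain ⟨ex, hn, hS, -, e, -⟩ := quot_setting (w := w) M.lx f hf
    (fun e => M.lx.ne (eq_one_of_odd ho (pw _ ((hk _).1 e)) hz4)) hcent
    (fun c hc => by
      have hcz := hcent c (hc zY M.lx.mem)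
      have hc' : ∀ a : Y, (a : G) ∈ Q → c * a * c⁻¹ = a := fun a ha =>
        hfe _ a (q4 _ (M.lx.norm c (congrArg Subtype.val hcz) a ha)) (q4 _ ha)
          (by rw [map_mul, map_mul, hc a ha, map_inv, mul_inv_cancel_right])
      obtain ⟨k, e⟩ := hrange ⟨c, mem_centralizer_singleton_iff.2 hcz⟩
      obtain ⟨a, ha, i, e'⟩ := hdec _ k e (F.faith k (mem_centralizer_singleton_iff.1 k.2)
        fun v hv => by
          obtain ⟨q, hq⟩ := M.ex' v
          have h1 := M.conj _ k e hq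
          exact M.congr hq ((show (c : G) * q * (c : G)⁻¹ = q from
            congrArg Subtype.val (hc' ⟨q, hfix hq hv⟩ (M.mem hq))) ▸ h1))
      rw [hfd c a i e']
      by_contra hno
      push Not at hno
      obtain ⟨d, hd, e1, e2⟩ := lx_exists_fixed M.lx M.card hp ho hβ hz' ha
        (fun e => hno.1 (by rw [show a = 1 from Subtype.ext e, map_one]))
        (fun e => hno.2 (congrArg f (Subtype.ext e))) ((hY a).1 a.2).symm
      have e3 : (c : G) * d * (c : G)⁻¹ = d := congrArg Subtype.val (hc' ⟨d, (hY d).2 e1⟩ hd)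
      rw [show (c : G) = a * β ^ i from e', mul_assoc _ _ d, ← (Commute.zpow_right e1 i).eq] at e3
      refine M.lx.ne (mul_eq_left.1 (?_ : (a : G) * zY = a))
      have e4 : (a : G) * d = d * a := by
        rw [← mul_inv_eq_iff_eq_mul]
        simpa [mul_assoc] using e3
      rw [M.lx.cen _ ha, ← e2, ← e4, mul_inv_cancel_right])
    hw
    (by
      have h1 := hcount fun _ => True
      have h2 := M.ncard_pre ((fun v : leechLattice => (v : leechLattice ⧸ twoL)) ''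
        {v | permC b • v = v})
      rw [F.card, mul_comm, ← pow_succ] at h2
      simp only [and_true] at h1
      rw [← h2, ← SetLike.coe_sort_coe, Nat.card_coe_set_eq]
      refine h1.trans (congrArg Set.ncard ?_)
      ext a
      constructor
      · rintro ⟨ha, haY⟩
        obtain ⟨v, hv⟩ := M.ex a ha
        exact ⟨v, hv, exists_fixed_rep ho hB (hcls hv haY)⟩
      · rintro ⟨v, hv, v', hv', e⟩
        exact ⟨M.mem hv, hfix (M.of_mk_eq hv e) hv'⟩)
    θ (fun t => by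
      obtain ⟨k, rfl⟩ := hφ t
      obtain ⟨h, e1, e2⟩ := exists_comm_lift π M.surj hp (by
          rw [show π.ker = Q.subgroupOf _ from by
              ext h; rw [MonoidHom.mem_ker, M.ker, mem_subgroupOf],
            Nat.card_congr (subgroupOfEquivOfLe fun a ha =>
              mem_centralizer_singleton_iff.2 (M.lx.cen a ha)).toEquiv, M.card]
          exact not_dvd_two_pow hp ho _)
        (β := ⟨β, hβz⟩) (Subtype.ext hβ) (k := ((k : Co0) : Spor.Co1)) (by
          rw [← hπ, ← QuotientGroup.mk_mul, ← QuotientGroup.mk_mul,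
            mem_centralizer_singleton_iff.1 k.2])
      exact ⟨⟨⟨h, (hY h).2 (congrArg Subtype.val e2)⟩,
        mem_centralizer_singleton_iff.2 (Subtype.ext (mem_centralizer_singleton_iff.1 h.2))⟩,
        hθ _ k e1.symm⟩)
    (fun h => by
      obtain ⟨k, e⟩ := hrange h
      rw [hθ h k e, hφk]
      constructor
      · intro hk
        obtain ⟨a, ha, i, e'⟩ := hdec h k e hk
        exact ⟨a, ha, (hfd _ a i e').symm⟩
      · rintro ⟨a, ha, e'⟩
        rw [← inv_mul_eq_one, ← map_inv, ← map_mul, hk] at e'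
        obtain ⟨i, hi⟩ := e'
        refine mem_pmCyc.2 ⟨i, ?_⟩
        have haz : (a : G) ∈ centralizer {(zY : G)} := mem_centralizer_singleton_iff.2 (M.lx.cen _ ha)
        have : cenIncl zY h = ⟨a, haz⟩ * ⟨β, hβz⟩ ^ i := Subtype.ext (by
          change (h.1 : G) = a * β ^ i
          rw [show β ^ i = _ from hi]; simp)
        rw [e, this, map_mul, (M.ker ⟨a, haz⟩).2 ha, one_mul, map_zpow, hπ])
    (fun P hP h2 => by
      rw [eq_bot_iff]
      intro t ht
      obtain ⟨k, rfl⟩ := hφ t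
      refine (hφk k).2 (F.core (P.comap φ) (hP.comap φ) (fun k hk => ?_) k ht)
      obtain ⟨n, hn⟩ := h2 ⟨φ k, hk⟩
      exact ⟨n, (hφk (k ^ 2 ^ n)).1 (by rw [map_pow]; exact congrArg Subtype.val hn)⟩)
    c (by rw [coe_mul, coe_mul, coe_inv, hc]; exact Q.mul_mem hs M.lx.mem)
    (fun e => (M.cj g).lx.ne (mul_eq_right.1 (hc.symm.trans (congrArg Subtype.val e))))
  refine ⟨f zY, _, hn, hS, ⟨e⟩, fun h48 => ?_⟩
  have hconj : ∀ a : Y, (a : G) ∈ Q → (IsConj (f zY) (f a) ↔ IsConj (zY : G) a) := fun a ha => by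
    constructor
    · intro h
      obtain ⟨c, hc⟩ := isConj_iff.1 h
      obtain ⟨c, rfl⟩ := hf c
      rw [← map_inv, ← map_mul, ← map_mul] at hc
      exact isConj_iff.2 ⟨c, congrArg Subtype.val (hfe _ _ (by
        rw [coe_mul, coe_mul, coe_inv, conj_pow, hz4, mul_one, mul_inv_cancel]) (q4 _ ha) hc)⟩
    · intro h
      by_cases haz : a = zY
      · rw [haz]
      have haz' : (a : G) ≠ zY := fun e => haz (Subtype.ext e)
      have ha1 : (a : G) ≠ 1 := fun e => M.lx.ne (isConj_one_left.1 (e ▸ h))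
      obtain ⟨g', hg'⟩ := isConj_iff.1 h
      obtain ⟨d, -, hd⟩ := M.lx.exists_conj ha ha1 haz'
      have e1 : d * g' * zY * (d * g')⁻¹ = zY * a := by rw [← hd, ← hg']; group
      obtain ⟨c, hc⟩ := weak (d * g') (e1 ▸ Q.mul_mem M.lx.mem ha)
        (by rw [e1, Ne, mul_eq_left]; exact ha1) (e1 ▸ ((hY _).1 (zY * a).2).symm)
      rw [e1, mul_assoc _ (a : G), M.lx.cen _ ha, M.zz] at hc
      exact isConj_iff.2 ⟨f c, by
        rw [← map_inv, ← map_mul, ← map_mul]; exact congrArg f (Subtype.ext hc)⟩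
  rw [← M.ncard_pre, ← Set.ncard_insert_of_notMem (a := (zY : G)),
    ← Set.ncard_image_of_injective _ Subtype.val_injective]
  · refine Eq.trans (congrArg Set.ncard ?_) ((hcount (IsConj zY)).trans (congrArg Set.ncard ?_))
    · ext x
      constructor
      · rintro ⟨⟨_, _⟩, ⟨⟨a, ha, rfl⟩, h⟩, rfl⟩
        exact ⟨a, ⟨ha, (hconj a ha).1 h⟩, rfl⟩
      · rintro ⟨a, ⟨ha, h⟩, rfl⟩
        exact ⟨⟨f a, mem_centralizer_singleton_iff.2 (ex.cen _ ⟨a, ha, rfl⟩)⟩,
          ⟨⟨a, ha, rfl⟩, (hconj a ha).2 h⟩, rfl⟩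
    · ext a
      constructor
      · rintro ⟨ha, haY, h⟩
        refine or_iff_not_imp_left.2 fun haz => ?_
        obtain ⟨g', rfl⟩ := isConj_iff.1 h
        obtain ⟨v, hv, h4⟩ := M.type_four ha haz
        exact ⟨v, hv, exists_fixed_rep64 hp h48 hB h4 (hcls hv haY)⟩
      · rintro (rfl | ⟨v, hv, v', hv', e⟩)
        · exact ⟨M.lx.mem, zY.2, IsConj.refl _⟩
        · exact ⟨M.mem hv, hfix (M.of_mk_eq hv e) hv'.2,
            M.isConj_of_four hs hne (M.of_mk_eq hv e) hv'.1⟩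
  · rintro ⟨v, hv, v', hv', e⟩
    exact (M.ne_of_short (M.of_mk_eq hv e) (by rw [hv'.1]; norm_num) hv'.1.le).2 rfl

end MD

end Cfsg.Agent.H15
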